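import Cfsg.Agent.LargeExtra.Wide.Geo

/-!
# `z` weakly closed in `Q`, any width: `P` is a class of 3-transpositions

A copy of `NineUnitary/Three.lean` with `GeoN` in place of `Geo6`.
-/

set_option autoImplicit false

namespace Cfsg.Agent.LargeExtra.Wide

open Cfsg.Agent.Co2Type.Quad Cfsg.Agent.LargeExtra.WCEnd

universe u

/-- `y` is a point of the line through `p` and `t`. -/
def On {G : Type*} [Group G] (Q : G → Subgroup G) (p t y : G) : Prop := y = p ∨ Commute y p ∧ y * t ∈ Q p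

section

variable {G : Type*} [Group G] {P : Set G} {Q : G → Subgroup G}

theorem IsL.on_iff (hg : GeoN P Q) {p t r₁ r₂ r₃ y : G} (h : IsL P Q p t r₁ r₂ r₃) (hy : y ∈ P) :
    On Q p t y ↔ y = p ∨ y = t ∨ y = r₁ ∨ y = r₂ ∨ y = r₃ := by
  constructor
  · rintro (h1 | ⟨h1, h2⟩)
    · exact Or.inl h1
    · exact Or.inr (h.mem y hy h1 h2)
  · rintro (rfl | rfl | rfl | rfl | rfl)
    · exact Or.inl rfl
    · refine Or.inr ⟨h.cpt.symm, ?_⟩
      rw [hg.sq h.ht]; exact (Q p).one_mem
    · exact Or.inr ⟨h.cp1.symm, h.m1⟩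
    · exact Or.inr ⟨h.cp2.symm, h.m2⟩
    · exact Or.inr ⟨h.cp3.symm, h.m3⟩

theorem On.left {p t : G} : On Q p t p := Or.inl rfl

theorem GeoN.on_right (hg : GeoN P Q) {p t : G} (ht : t ∈ P) (hc : Commute p t) : On Q p t t := by
  refine Or.inr ⟨hc.symm, ?_⟩
  rw [hg.sq ht]; exact (Q p).one_mem

theorem On.comm_left {p t y : G} (h : On Q p t y) : Commute y p := by
  rcases h with rfl | h
  · exact Commute.refl _
  · exact h.1

/-- If `a` is off the line through `p` and `t`, then `p t ∉ Q a`. -/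
theorem GeoN.notMem_of_off (hg : GeoN P Q) {p t a : G} (hp : p ∈ P) (ht : t ∈ P) (ha : a ∈ P) (hne : p ≠ t)
    (hc : Commute p t) (hap : Commute a p) (hat : Commute a t) (hoff : ¬ On Q p t a) : p * t ∉ Q a := by
  intro hm
  apply hoff
  have hne' : a ≠ p := fun e => hoff (Or.inl e)
  obtain ⟨r₁, r₂, r₃, h⟩ := hg.isL ha hp hne' hap
  have htp : t * p ∈ Q a := by rw [hc.symm.eq]; exact hm
  right
  refine ⟨hap, ?_⟩
  rw [hat.eq]
  rcases h.mem t ht hat.symm htp with e | e | e | e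
  · exact absurd e.symm hne
  · rw [e]; exact h.s1
  · rw [e]; exact h.s2
  · rw [e]; exact h.s3

end

section

variable {G : Type u} [Group G] [Finite G] {P : Set G} {Q : G → Subgroup G}

/-- **The plane**: an element of `P` commuting with the product of three points of a plane, not on a line,
commutes with them. -/
theorem GeoN.plane (hZ : ZStar.{u}) (hg : GeoN P Q) {p t v s : G} (hp : p ∈ P) (ht : t ∈ P) (hv : v ∈ P)
    (hs : s ∈ P) (hne : p ≠ t) (hc : Commute p t) (hvp : Commute v p) (hvt : Commute v t)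
    (hoff : ¬ On Q p t v) (hsj : Commute s (p * t * v)) : Commute s p := by
  by_contra hsp
  obtain ⟨r₁, r₂, r₃, h⟩ := hg.isL hp ht hne hc
  have huu := h.sq_mul hg
  have hq1 := h.q1
  have hL := hg.large r₁ h.h1
  have hvr : Commute v r₁ := h.comm_line hg hv hvp hvt
  have hvv := hg.sq hv
  have hss := hg.sq hs
  have hvq : Commute v (p * t) := hvp.mul_right hvt
  set q := p * t with hq
  set j := q * v with hj
  have hjq : Commute j q := (Commute.refl q).mul_left hvq
  have hjj : j * j = 1 := by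
    rw [hj, mul_assoc q v, ← mul_assoc v q v, hvq.eq, mul_assoc q v v, hvv, mul_one, huu]
  have hvj : v = q * j := by rw [hj, ← mul_assoc, huu, one_mul]
  have hpj : Commute p j := by
    rw [hj, hq]
    exact (((Commute.refl p).mul_right hc).mul_right hvp.symm)
  have hrj : Commute r₁ j := by
    rw [hj]
    exact h.comm_r.mul_right hvr.symm
  have hsr : ¬ Commute s r₁ := by
    intro hsr
    have hsq : s * q * s⁻¹ ∈ Q r₁ := hL.conj_mem s hsr.eq q hq1
    have h1 : s * v * (s * v) ∈ Q r₁ := by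
      have e : s * v * (s * v) = (s * q * s⁻¹) * q := by
        calc s * v * (s * v) = s * (q * j) * (s * (q * j)) := by rw [← hvj]
          _ = s * q * (j * s) * q * j := by group
          _ = s * q * (s * j) * q * j := by rw [hsj.eq]
          _ = s * q * s * (j * q) * j := by group
          _ = s * q * s * q * (j * j) := by rw [hjq.eq]; group
          _ = s * q * s * q := by rw [hjj, mul_one]
          _ = _ := by rw [hg.inv hs]
      rw [e]
      exact (Q r₁).mul_mem hsq hq1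
    have h2 : Commute s v := hg.comm_of r₁ h.h1 s hs v hv hsr hvr h1
    have h3 : Commute s q := by
      have e : q = j * v := by rw [hj, mul_assoc, hvv, mul_one]
      rw [e]; exact hsj.mul_right h2
    exact hsp (hg.comm_of_comm_mul hZ hp ht hne hc hs h3)
  obtain ⟨k₁, hk₁, e₁⟩ := hg.conj_in hZ hp hs (fun h => hsp h.symm) hpj hsj
  obtain ⟨k₂, hk₂, e₂⟩ := hg.conj_in hZ hs h.h1 hsr hsj hrj
  have hkj : Commute (k₂ * k₁) j := hk₂.mul_left hk₁
  have hkp : (k₂ * k₁) * p * (k₂ * k₁)⁻¹ = r₁ := by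
    calc (k₂ * k₁) * p * (k₂ * k₁)⁻¹ = k₂ * (k₁ * p * k₁⁻¹) * k₂⁻¹ := by group
      _ = r₁ := by rw [e₁, e₂]
  set k := k₂ * k₁ with hk
  have haP : k * t * k⁻¹ ∈ P := hg.conj_mem t ht k
  have hbP : k * v * k⁻¹ ∈ P := hg.conj_mem v hv k
  have hcc : ∀ x y : G, Commute x y → Commute (k * x * k⁻¹) (k * y * k⁻¹) := by
    intro x y hxy
    show k * x * k⁻¹ * (k * y * k⁻¹) = k * y * k⁻¹ * (k * x * k⁻¹)
    calc k * x * k⁻¹ * (k * y * k⁻¹) = k * (x * y) * k⁻¹ := by group
      _ = k * (y * x) * k⁻¹ := by rw [hxy.eq]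
      _ = _ := by group
  have ha : Commute (k * t * k⁻¹) r₁ := by
    have := hcc t p hc.symm
    rwa [hkp] at this
  have hb : Commute (k * v * k⁻¹) r₁ := by
    have := hcc v p hvp
    rwa [hkp] at this
  have hprod : r₁ * (k * t * k⁻¹) * (k * v * k⁻¹) = j := by
    calc r₁ * (k * t * k⁻¹) * (k * v * k⁻¹) = k * p * k⁻¹ * (k * t * k⁻¹) * (k * v * k⁻¹) := by rw [hkp]
      _ = k * j * k⁻¹ := by rw [hj, hq]; group
      _ = j := by rw [hkj.eq]; group
  have hne1 : k * t * k⁻¹ ≠ r₁ := by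
    intro e
    rw [← hkp] at e
    exact hne (mul_left_cancel (mul_right_cancel e)).symm
  have hvne : v ≠ p := fun e => hoff (Or.inl e)
  have hne2 : k * v * k⁻¹ ≠ r₁ := by
    intro e
    rw [← hkp] at e
    exact hvne (mul_left_cancel (mul_right_cancel e))
  have hne3 : v ≠ r₁ := by
    intro e
    apply hoff
    rw [e]
    exact (h.on_iff hg h.h1).2 (Or.inr (Or.inr (Or.inl rfl)))
  apply hg.no_tri r₁ h.h1 _ haP _ hbP v hv ha hb hvr hne1 hne2 hne3 (hcc t v hvt.symm)
  have e : k * t * k⁻¹ * (k * v * k⁻¹) * v = r₁ * q := by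
    calc k * t * k⁻¹ * (k * v * k⁻¹) * v = (r₁ * r₁) * (k * t * k⁻¹ * (k * v * k⁻¹)) * v := by
          rw [hg.sq h.h1, one_mul]
      _ = r₁ * (r₁ * (k * t * k⁻¹) * (k * v * k⁻¹)) * v := by group
      _ = r₁ * (q * v) * v := by rw [hprod, hj]
      _ = r₁ * q * (v * v) := by group
      _ = _ := by rw [hvv, mul_one]
  rw [e]
  exact (Q r₁).mul_mem hL.z_mem hq1

/-- Every element of `P` commutes with a point of every line. -/
theorem GeoN.meets (hZ : ZStar.{u}) (hg : GeoN P Q) {p t s : G} (hp : p ∈ P) (ht : t ∈ P) (hne : p ≠ t)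
    (hc : Commute p t) (hs : s ∈ P) : ∃ r ∈ P, On Q p t r ∧ Commute r s := by
  obtain ⟨r₁, r₂, r₃, h⟩ := hg.isL hp ht hne hc
  have huu := h.sq_mul hg
  set u := p * t with hu
  have hui : u⁻¹ = u := inv_eq_of_mul_eq_one_left huu
  by_cases hsu : Commute s u
  · exact ⟨p, hp, Or.inl rfl, (hg.comm_of_comm_mul hZ hp ht hne hc hs hsu).symm⟩
  have hs' : u * s * u ∈ P := by
    have := hg.conj_mem s hs u
    rwa [hui] at this
  have hss' : s ≠ u * s * u := by
    intro e
    apply hsu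
    show s * u = u * s
    calc s * u = (u * s * u) * u := by rw [← e]
      _ = u * s * (u * u) := by group
      _ = u * s := by rw [huu, mul_one]
  by_cases hcs : Commute s (u * s * u)
  · obtain ⟨b₁, b₂, b₃, hb⟩ := hg.isL hs hs' hss' hcs
    obtain ⟨a, b, c, hl, hf⟩ := hb.exists_fix' hg huu rfl
    have cau : Commute a u := (comm_of_fix huu hf).symm
    obtain ⟨d1, d2⟩ := hg.comm_both hZ hp ht hne hc hl.h1 cau
    by_cases hon : On Q p t a
    · exact ⟨a, hl.h1, hon, hl.cp1.symm⟩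
    · have hne1 : p ≠ a := fun e => hon (Or.inl e.symm)
      have hne2 : t ≠ a := fun e => hon (e ▸ hg.on_right ht hc)
      obtain ⟨y, hy, h1, h2⟩ := hg.polar a hl.h1 p hp t ht s hs d1.symm d2.symm hl.cp1 hne1 hne2 hc
        (hg.notMem_of_off hp ht hl.h1 hne hc d1 d2 hon)
      exact ⟨y, hy, h1, h2⟩
  · obtain ⟨k, hk⟩ := hg.odd_order hZ hs hs' hcs
    have e0 : s * (u * s * u) = (s * u) ^ 2 := by rw [pow_two]; group
    rw [e0] at hk
    set j := (s * u) ^ (2 * k + 1) with hj
    have hjj : j * j = 1 := by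
      rw [hj, ← pow_two, ← pow_mul, mul_comm, pow_mul, ← hk, pow_orderOf_eq_one]
    have hji : j⁻¹ = j := inv_eq_of_mul_eq_one_left hjj
    obtain ⟨c1, c2⟩ := conj_pow_eq (hg.sq hs) huu (2 * k + 1)
    rw [← hj, hji] at c1 c2
    have csj : Commute s j := by
      show s * j = j * s
      calc s * j = (s * j * s) * s⁻¹ := by group
        _ = j * s := by rw [c1, hg.inv hs]
    have cuj : Commute u j := by
      show u * j = j * u
      calc u * j = (u * j * u) * u⁻¹ := by group
        _ = j * u := by rw [c2, hui]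
    have hv : ∀ i : ℕ, u * (s * u) ^ (2 * i + 1) ∈ P := by
      intro i
      induction i with
      | zero =>
        have e : u * (s * u) ^ (2 * 0 + 1) = u * s * u := by
          rw [mul_zero, zero_add, pow_one]; group
        rw [e]; exact hs'
      | succ i ih =>
        have h1 := hg.conj_mem _ ih (s * u)⁻¹
        have e : (s * u)⁻¹ * (u * (s * u) ^ (2 * i + 1)) * (s * u)⁻¹⁻¹ =
            u * (s * u) ^ (2 * (i + 1) + 1) := by
          rw [inv_inv, mul_inv_rev, hg.inv hs, hui]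
          calc u * s * (u * (s * u) ^ (2 * i + 1)) * (s * u)
              = u * ((s * u) * ((s * u) ^ (2 * i + 1) * (s * u))) := by simp only [mul_assoc]
            _ = u * (s * u) ^ (2 * (i + 1) + 1) := by
                rw [← pow_succ, ← pow_succ', show 2 * i + 1 + 1 + 1 = 2 * (i + 1) + 1 from by ring]
        rwa [e] at h1
    have hvP := hv k
    rw [← hj] at hvP
    have cvu : Commute (u * j) u := (Commute.refl u).mul_left cuj.symm
    obtain ⟨d1, d2⟩ := hg.comm_both hZ hp ht hne hc hvP cvu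
    have hjv : j = u * (u * j) := by rw [← mul_assoc, huu, one_mul]
    by_cases hon : On Q p t (u * j)
    · rcases (h.on_iff hg hvP).1 hon with e | e | e | e | e
      · -- `v = p`, `j = t`
        have hjt : j = t := by
          rw [hjv, e, hu, mul_assoc, ← hc.eq, ← mul_assoc, hg.sq hp, one_mul]
        exact ⟨t, ht, hg.on_right ht hc, by rw [← hjt]; exact csj.symm⟩
      · have hjp : j = p := by
          rw [hjv, e, hu, mul_assoc, hg.sq ht, mul_one]
        exact ⟨p, hp, Or.inl rfl, by rw [← hjp]; exact csj.symm⟩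
      · have hj2 : j = r₂ * r₃ := by
          rw [hjv, e, ← h.comm_r.eq, h.mul_eq hg]
        have h2 := hg.comm_of_comm_mul hZ h.h2 h.h3 h.n23 h.c23 hs (by rw [← hj2]; exact csj)
        exact ⟨r₂, h.h2, Or.inr ⟨h.cp2.symm, h.m2⟩, h2.symm⟩
      · have hj2 : j = r₃ * r₁ := by
          rw [hjv, e, ← h.rot.comm_r.eq, h.rot.mul_eq hg]
        have h2 := hg.comm_of_comm_mul hZ h.h3 h.h1 h.n13.symm h.c13.symm hs (by rw [← hj2]; exact csj)
        exact ⟨r₃, h.h3, Or.inr ⟨h.cp3.symm, h.m3⟩, h2.symm⟩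
      · have hj2 : j = r₁ * r₂ := by
          rw [hjv, e, ← h.rot.rot.comm_r.eq, h.rot.rot.mul_eq hg]
        have h2 := hg.comm_of_comm_mul hZ h.h1 h.h2 h.n12 h.c12 hs (by rw [← hj2]; exact csj)
        exact ⟨r₁, h.h1, Or.inr ⟨h.cp1.symm, h.m1⟩, h2.symm⟩
    · have csj' : Commute s (p * t * (u * j)) := by
        rw [← hu, ← hjv]; exact csj
      exact ⟨p, hp, Or.inl rfl, (hg.plane hZ hp ht hvP hs hne hc d1 d2 hon csj').symm⟩

/-- `P` is a set of 3-transpositions. -/
theorem GeoN.three (hZ : ZStar.{u}) (hg : GeoN P Q) (hex : ∃ p ∈ P, ∃ t ∈ P, p ≠ t ∧ Commute p t)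
    {x y : G} (hx : x ∈ P) (hy : y ∈ P) (hnc : ¬ Commute x y) : (x * y) ^ 3 = 1 := by
  obtain ⟨p, hp, t, ht, hne, hc⟩ := hex
  obtain ⟨g, hgx⟩ := hg.exists_conj p hp x hx
  have ht' : g * t * g⁻¹ ∈ P := hg.conj_mem t ht g
  have hne' : x ≠ g * t * g⁻¹ := by
    rw [← hgx]
    intro h
    apply hne
    have := mul_right_cancel h
    exact mul_left_cancel this
  have hc' : Commute x (g * t * g⁻¹) := by
    rw [← hgx]
    show g * p * g⁻¹ * (g * t * g⁻¹) = g * t * g⁻¹ * (g * p * g⁻¹)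
    calc g * p * g⁻¹ * (g * t * g⁻¹) = g * (p * t) * g⁻¹ := by group
      _ = g * (t * p) * g⁻¹ := by rw [hc.eq]
      _ = _ := by group
  obtain ⟨r, hr, hon, c3⟩ := hg.meets hZ hx ht' hne' hc' hy
  have c1 := hon.comm_left
  have o1 := hg.ord_three r hr x hx y hy c1.symm c3.symm hnc
  have h4 := pow_four (hg.large r hr) o1
  have hodd := hg.odd_order hZ hx hy hnc
  have h5 : ((x * y) ^ 3) ^ (orderOf (x * y)) = 1 := by
    rw [← pow_mul, mul_comm, pow_mul, pow_orderOf_eq_one, one_pow]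
  exact eq_one_of_odd h4 h5 hodd

end

end Cfsg.Agent.LargeExtra.Wide
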