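import Cfsg.Agent.LargeExtra.WCEndB

/-!
# `z` weakly closed in `Q`, any width: interface and first consequences (helper888)

A copy of `NineUnitary/Geo.lean` (helper949) without the two counts of `Geo6`.

`GeoN P Q`: `P` a class of involutions, `Q p` the large extraspecial subgroup of `p ∈ P`; two distinct commuting
elements of `P` span a line of five commuting elements of `P`; the images of the elements of `P ∩ C(p)` in
`C(p) / Q p` behave like the root elements of a unitary group over the field of four elements.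
-/

set_option autoImplicit false

namespace Cfsg.Agent.LargeExtra.Wide

open Cfsg.Agent.Co2Type.Quad Cfsg.Agent.LargeExtra.WCEnd

universe u

/-- The geometry of `P = z ^ G` in the branch `U4(2)`. -/
structure GeoN {G : Type*} [Group G] (P : Set G) (Q : G → Subgroup G) : Prop where
  conj_mem : ∀ p ∈ P, ∀ g : G, g * p * g⁻¹ ∈ P
  exists_conj : ∀ p ∈ P, ∀ q ∈ P, ∃ g : G, g * p * g⁻¹ = q
  large : ∀ p ∈ P, Large (Q p) p
  Q_conj : ∀ p ∈ P, ∀ g x : G, x ∈ Q p → g * x * g⁻¹ ∈ Q (g * p * g⁻¹)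
  eq_of_mem : ∀ p ∈ P, ∀ x ∈ P, x ∈ Q p → x = p
  mul_notMem : ∀ p ∈ P, ∀ t ∈ P, p ≠ t → Commute p t → p * t ∉ P
  /-- the line through two commuting elements -/
  line : ∀ p ∈ P, ∀ t ∈ P, p ≠ t → Commute p t → ∃ r₁ ∈ P, ∃ r₂ ∈ P, ∃ r₃ ∈ P,
    [p, t, r₁, r₂, r₃].Nodup ∧ (∀ a ∈ [p, t, r₁, r₂, r₃], ∀ b ∈ [p, t, r₁, r₂, r₃], Commute a b) ∧
      [p, t, r₁, r₂, r₃].prod = 1 ∧
      (∀ a ∈ [p, t, r₁, r₂, r₃], ∀ b ∈ [p, t, r₁, r₂, r₃], ∀ c ∈ [p, t, r₁, r₂, r₃],
        a ≠ b → a ≠ c → b ≠ c → a * b ∈ Q c) ∧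
      ∀ s ∈ P, Commute s p → s * t ∈ Q p → s ∈ [t, r₁, r₂, r₃]
  /-- (A1) -/
  comm_of : ∀ p ∈ P, ∀ t ∈ P, ∀ s ∈ P, Commute t p → Commute s p → (t * s) * (t * s) ∈ Q p → Commute t s
  /-- (A2) -/
  ord_three : ∀ p ∈ P, ∀ t ∈ P, ∀ s ∈ P, Commute t p → Commute s p → ¬ Commute t s → (t * s) ^ 3 ∈ Q p
  /-- (A3): the product of two commuting root elements is not a root element -/
  no_tri : ∀ p ∈ P, ∀ t ∈ P, ∀ s ∈ P, ∀ x ∈ P, Commute t p → Commute s p → Commute x p →
    t ≠ p → s ≠ p → x ≠ p → Commute t s → t * s * x ∉ Q p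
  /-- (A5): the one-or-all axiom in the residue of `p` -/
  polar : ∀ p ∈ P, ∀ t ∈ P, ∀ s ∈ P, ∀ x ∈ P, Commute t p → Commute s p → Commute x p →
    t ≠ p → s ≠ p → Commute t s → t * s ∉ Q p → ∃ y ∈ P, (y = t ∨ Commute y t ∧ y * s ∈ Q t) ∧ Commute y x

/-- `p, t, r₁, r₂, r₃` are the five points of a line. -/
structure IsL {G : Type*} [Group G] (P : Set G) (Q : G → Subgroup G) (p t r₁ r₂ r₃ : G) : Prop where
  hp : p ∈ P
  ht : t ∈ P
  h1 : r₁ ∈ P
  h2 : r₂ ∈ P
  h3 : r₃ ∈ P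
  pt : p ≠ t
  p1 : p ≠ r₁
  p2 : p ≠ r₂
  p3 : p ≠ r₃
  t1 : t ≠ r₁
  t2 : t ≠ r₂
  t3 : t ≠ r₃
  n12 : r₁ ≠ r₂
  n13 : r₁ ≠ r₃
  n23 : r₂ ≠ r₃
  cpt : Commute p t
  cp1 : Commute p r₁
  cp2 : Commute p r₂
  cp3 : Commute p r₃
  ct1 : Commute t r₁
  ct2 : Commute t r₂
  ct3 : Commute t r₃
  c12 : Commute r₁ r₂
  c13 : Commute r₁ r₃
  c23 : Commute r₂ r₃
  prod : p * t * (r₁ * r₂ * r₃) = 1
  q1 : p * t ∈ Q r₁
  q2 : p * t ∈ Q r₂
  q3 : p * t ∈ Q r₃
  m1 : r₁ * t ∈ Q p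
  m2 : r₂ * t ∈ Q p
  m3 : r₃ * t ∈ Q p
  s1 : r₁ * p ∈ Q t
  s2 : r₂ * p ∈ Q t
  s3 : r₃ * p ∈ Q t
  mem : ∀ s ∈ P, Commute s p → s * t ∈ Q p → s = t ∨ s = r₁ ∨ s = r₂ ∨ s = r₃
  mem' : ∀ s ∈ P, Commute s t → s * p ∈ Q t → s = p ∨ s = r₁ ∨ s = r₂ ∨ s = r₃

section

variable {G : Type*} [Group G] {P : Set G} {Q : G → Subgroup G}

theorem three_in_three {G : Type*} {a b c x y z s : G} (ha : a = x ∨ a = y ∨ a = z) (hb : b = x ∨ b = y ∨ b = z)
    (hc : c = x ∨ c = y ∨ c = z) (hab : a ≠ b) (hac : a ≠ c) (hbc : b ≠ c) (hs : s = x ∨ s = y ∨ s = z) :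
    s = a ∨ s = b ∨ s = c := by
  rcases ha with ha | ha | ha <;> rcases hb with hb | hb | hb <;> rcases hc with hc | hc | hc <;>
    rcases hs with hs | hs | hs <;> simp_all

theorem GeoN.isL (hg : GeoN P Q) {p t : G} (hp : p ∈ P) (ht : t ∈ P) (hne : p ≠ t) (hc : Commute p t) :
    ∃ r₁ r₂ r₃, IsL P Q p t r₁ r₂ r₃ := by
  obtain ⟨r₁, h1, r₂, h2, r₃, h3, hnd, hcm, hpr, hmm, hm⟩ := hg.line p hp t ht hne hc
  obtain ⟨r₁', h1', r₂', h2', r₃', h3', hnd', hcm', hpr', hmm', hm'⟩ := hg.line t ht p hp hne.symm hc.symm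
  refine ⟨r₁, r₂, r₃, ?_⟩
  simp only [List.nodup_cons, List.mem_cons, List.not_mem_nil, not_or, or_false, List.nodup_nil,
    and_true, not_false_eq_true] at hnd hnd'
  obtain ⟨⟨-, a1, a2, a3⟩, ⟨b1, b2, b3⟩, ⟨c1, c2⟩, d1⟩ := hnd
  change p ≠ r₁ at a1
  change p ≠ r₂ at a2
  change p ≠ r₃ at a3
  change t ≠ r₁ at b1
  change t ≠ r₂ at b2
  change t ≠ r₃ at b3
  have e1 : r₁ * p ∈ Q t := hmm _ (by simp) _ (by simp) _ (by simp) a1.symm b1.symm hne
  have e2 : r₂ * p ∈ Q t := hmm _ (by simp) _ (by simp) _ (by simp) a2.symm b2.symm hne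
  have e3 : r₃ * p ∈ Q t := hmm _ (by simp) _ (by simp) _ (by simp) a3.symm b3.symm hne
  have f1 := hm' r₁ h1 (hcm _ (by simp) _ (by simp)) e1
  have f2 := hm' r₂ h2 (hcm _ (by simp) _ (by simp)) e2
  have f3 := hm' r₃ h3 (hcm _ (by simp) _ (by simp)) e3
  simp only [List.mem_cons, List.not_mem_nil, or_false] at f1 f2 f3
  refine ⟨hp, ht, h1, h2, h3, hne, a1, a2, a3, b1, b2, b3, c1, c2, d1, hc, hcm _ (by simp) _ (by simp),
    hcm _ (by simp) _ (by simp), hcm _ (by simp) _ (by simp), hcm _ (by simp) _ (by simp),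
    hcm _ (by simp) _ (by simp), hcm _ (by simp) _ (by simp), hcm _ (by simp) _ (by simp),
    hcm _ (by simp) _ (by simp), hcm _ (by simp) _ (by simp), ?_,
    hmm _ (by simp) _ (by simp) _ (by simp) hne a1 b1, hmm _ (by simp) _ (by simp) _ (by simp) hne a2 b2,
    hmm _ (by simp) _ (by simp) _ (by simp) hne a3 b3,
    hmm _ (by simp) _ (by simp) _ (by simp) b1.symm a1.symm hne.symm,
    hmm _ (by simp) _ (by simp) _ (by simp) b2.symm a2.symm hne.symm,
    hmm _ (by simp) _ (by simp) _ (by simp) b3.symm a3.symm hne.symm, e1, e2, e3, ?_, ?_⟩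
  · rw [← hpr]
    simp [mul_assoc]
  · intro s hs h1 h2
    have := hm s hs h1 h2
    simpa using this
  · intro s hs k1 k2
    have := hm' s hs k1 k2
    simp only [List.mem_cons, List.not_mem_nil, or_false] at this
    rcases this with e | e
    · exact Or.inl e
    · right
      exact three_in_three (f1.resolve_left (fun h => a1 h.symm)) (f2.resolve_left (fun h => a2 h.symm))
        (f3.resolve_left (fun h => a3 h.symm)) c1 c2 d1 e

theorem GeoN.sq (hg : GeoN P Q) {p : G} (hp : p ∈ P) : p * p = 1 := (hg.large p hp).z_sq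

theorem GeoN.ne_one (hg : GeoN P Q) {p : G} (hp : p ∈ P) : p ≠ 1 := (hg.large p hp).z_ne

theorem GeoN.inv (hg : GeoN P Q) {p : G} (hp : p ∈ P) : p⁻¹ = p := inv_eq_of_mul_eq_one_left (hg.sq hp)

/-- conjugation by an involution of `P` -/
theorem GeoN.conj_mem' (hg : GeoN P Q) {p s : G} (hp : p ∈ P) (hs : s * s = 1) : s * p * s ∈ P := by
  have := hg.conj_mem p hp s
  rwa [inv_eq_of_mul_eq_one_left hs] at this

theorem GeoN.Q_conj' (hg : GeoN P Q) {p s x : G} (hp : p ∈ P) (hs : s * s = 1) (hx : x ∈ Q p) :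
    s * x * s ∈ Q (s * p * s) := by
  have := hg.Q_conj p hp s x hx
  rwa [inv_eq_of_mul_eq_one_left hs] at this

/-- swapping the roles of the two first points -/
theorem IsL.symm {p t r₁ r₂ r₃ : G} (h : IsL P Q p t r₁ r₂ r₃) : IsL P Q t p r₁ r₂ r₃ where
  hp := h.ht
  ht := h.hp
  h1 := h.h1
  h2 := h.h2
  h3 := h.h3
  pt := h.pt.symm
  p1 := h.t1
  p2 := h.t2
  p3 := h.t3
  t1 := h.p1
  t2 := h.p2
  t3 := h.p3
  n12 := h.n12
  n13 := h.n13
  n23 := h.n23
  cpt := h.cpt.symm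
  cp1 := h.ct1
  cp2 := h.ct2
  cp3 := h.ct3
  ct1 := h.cp1
  ct2 := h.cp2
  ct3 := h.cp3
  c12 := h.c12
  c13 := h.c13
  c23 := h.c23
  prod := by rw [← h.cpt.eq]; exact h.prod
  q1 := by rw [← h.cpt.eq]; exact h.q1
  q2 := by rw [← h.cpt.eq]; exact h.q2
  q3 := by rw [← h.cpt.eq]; exact h.q3
  m1 := h.s1
  m2 := h.s2
  m3 := h.s3
  s1 := h.m1
  s2 := h.m2
  s3 := h.m3
  mem := h.mem'
  mem' := h.mem

/-- cyclic rotation of the three other points -/
theorem IsL.rot {p t r₁ r₂ r₃ : G} (h : IsL P Q p t r₁ r₂ r₃) : IsL P Q p t r₂ r₃ r₁ where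
  hp := h.hp
  ht := h.ht
  h1 := h.h2
  h2 := h.h3
  h3 := h.h1
  pt := h.pt
  p1 := h.p2
  p2 := h.p3
  p3 := h.p1
  t1 := h.t2
  t2 := h.t3
  t3 := h.t1
  n12 := h.n23
  n13 := h.n12.symm
  n23 := h.n13.symm
  cpt := h.cpt
  cp1 := h.cp2
  cp2 := h.cp3
  cp3 := h.cp1
  ct1 := h.ct2
  ct2 := h.ct3
  ct3 := h.ct1
  c12 := h.c23
  c13 := h.c12.symm
  c23 := h.c13.symm
  prod := by
    have : r₂ * r₃ * r₁ = r₁ * r₂ * r₃ := by
      rw [← (h.c12.mul_right h.c13).eq, mul_assoc]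
    rw [this]; exact h.prod
  q1 := h.q2
  q2 := h.q3
  q3 := h.q1
  m1 := h.m2
  m2 := h.m3
  m3 := h.m1
  s1 := h.s2
  s2 := h.s3
  s3 := h.s1
  mem := by
    intro s hs h1 h2
    rcases h.mem s hs h1 h2 with h | h | h | h
    · exact Or.inl h
    · exact Or.inr (Or.inr (Or.inr h))
    · exact Or.inr (Or.inl h)
    · exact Or.inr (Or.inr (Or.inl h))
  mem' := by
    intro s hs h1 h2
    rcases h.mem' s hs h1 h2 with h | h | h | h
    · exact Or.inl h
    · exact Or.inr (Or.inr (Or.inr h))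
    · exact Or.inr (Or.inl h)
    · exact Or.inr (Or.inr (Or.inl h))

theorem IsL.eq_mul (hg : GeoN P Q) {p t r₁ r₂ r₃ : G} (h : IsL P Q p t r₁ r₂ r₃) :
    p * t = r₁ * r₂ * r₃ := by
  have h1 := h.prod
  have h2 : (r₁ * r₂ * r₃)⁻¹ = r₁ * r₂ * r₃ := by
    rw [mul_inv_rev, mul_inv_rev, hg.inv h.h1, hg.inv h.h2, hg.inv h.h3, ← h.c12.eq,
      ← (h.c13.mul_left h.c23).eq]
  rw [← h2]
  exact eq_inv_of_mul_eq_one_left h1

/-- the product of `r₁` with `p t` is the product of the two other points -/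
theorem IsL.mul_eq (hg : GeoN P Q) {p t r₁ r₂ r₃ : G} (h : IsL P Q p t r₁ r₂ r₃) :
    r₁ * (p * t) = r₂ * r₃ := by
  rw [h.eq_mul hg, ← mul_assoc, ← mul_assoc, hg.sq h.h1, one_mul]

theorem IsL.mul_notMem (hg : GeoN P Q) {p t r₁ r₂ r₃ : G} (h : IsL P Q p t r₁ r₂ r₃) :
    r₁ * (p * t) ∉ P := by
  rw [h.mul_eq hg]
  exact hg.mul_notMem _ h.h2 _ h.h3 h.n23 h.c23

theorem IsL.sq_mul (hg : GeoN P Q) {p t r₁ r₂ r₃ : G} (h : IsL P Q p t r₁ r₂ r₃) :
    (p * t) * (p * t) = 1 := by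
  have e : (p * t) * (p * t) = (p * p) * (t * t) := by
    rw [mul_assoc p t, ← mul_assoc t p, ← h.cpt.eq, mul_assoc p t, ← mul_assoc p p]
  rw [e, hg.sq h.hp, hg.sq h.ht, one_mul]

theorem IsL.comm_r {p t r₁ r₂ r₃ : G} (h : IsL P Q p t r₁ r₂ r₃) : Commute r₁ (p * t) :=
  h.cp1.symm.mul_right h.ct1.symm

/-- the product of two points is not in the subgroup of one of them -/
theorem GeoN.mul_notMem_Q (hg : GeoN P Q) {p t : G} (hp : p ∈ P) (ht : t ∈ P) (hne : p ≠ t) : p * t ∉ Q p := by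
  intro h
  have h1 : t ∈ Q p := by
    have : t = p⁻¹ * (p * t) := by group
    rw [this]; exact (Q p).mul_mem ((Q p).inv_mem (hg.large p hp).z_mem) h
  exact hne (hg.eq_of_mem p hp t ht h1).symm

/-- Two points with product `p t`, one of them commuting with `p`: they are `p` and `t`. -/
theorem GeoN.eq_or_eq (hg : GeoN P Q) {p t s s' : G} (hp : p ∈ P) (ht : t ∈ P) (hne : p ≠ t)
    (hc : Commute p t) (hs : s ∈ P) (hs' : s' ∈ P) (hss : s * s' = p * t) (hsp : Commute s p) :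
    s = p ∨ s = t := by
  by_cases hs1 : s = p
  · exact Or.inl hs1
  have hss' : s' = s * (p * t) := by rw [← hss, ← mul_assoc, hg.sq hs, one_mul]
  have hu : (p * t) * (p * t) = 1 := by
    have e : (p * t) * (p * t) = (p * p) * (t * t) := by
      rw [mul_assoc p t, ← mul_assoc t p, ← hc.eq, mul_assoc p t, ← mul_assoc p p]
    rw [e, hg.sq hp, hg.sq ht, one_mul]
  have hcs : Commute s s' := by
    have h1 : (s * s') * (s * s') = 1 := by rw [hss, hu]
    show s * s' = s' * s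
    have h2 : (s * s')⁻¹ = s * s' := inv_eq_of_mul_eq_one_left h1
    rw [← h2, mul_inv_rev, hg.inv hs, hg.inv hs']
  by_cases hs2 : s' = p
  · right
    rw [hs2] at hss
    rw [hs2] at hcs
    have : p * s = p * t := by rw [← hcs.eq, hss]
    exact mul_left_cancel this
  have hs'p : Commute s' p := by
    rw [hss']
    exact hsp.mul_left ((Commute.refl p).mul_left hc.symm)
  exfalso
  apply hg.no_tri p hp s hs s' hs' t ht hsp hs'p hc.symm hs1 hs2 hne.symm hcs
  rw [hss, mul_assoc, hg.sq ht, mul_one]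
  exact (hg.large p hp).z_mem

/-- An element of order two swapping two points of a line fixes another point of the line. -/
theorem IsL.exists_fix (hg : GeoN P Q) {p t r₁ r₂ r₃ s : G} (h : IsL P Q p t r₁ r₂ r₃)
    (hss : s * s = 1) (hst : s * p * s = t) :
    (s * r₁ * s = r₁ ∨ s * r₂ * s = r₂ ∨ s * r₃ * s = r₃) := by
  have hts : s * t * s = p := by
    rw [← hst]
    calc s * (s * p * s) * s = (s * s) * p * (s * s) := by group
      _ = p := by rw [hss]; group
  have hcc : ∀ x y : G, Commute x y → Commute (s * x * s) (s * y * s) := by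
    intro x y hxy
    show s * x * s * (s * y * s) = s * y * s * (s * x * s)
    calc s * x * s * (s * y * s) = s * x * (s * s) * y * s := by group
      _ = s * (x * y) * s := by rw [hss]; group
      _ = s * (y * x) * s := by rw [hxy.eq]
      _ = s * y * (s * s) * x * s := by rw [hss]; group
      _ = _ := by group
  have hinj : ∀ x y : G, s * x * s = y → s * y * s = x := by
    rintro x y rfl
    calc s * (s * x * s) * s = (s * s) * x * (s * s) := by group
      _ = x := by rw [hss]; group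
  have himg : ∀ r ∈ P, r ≠ p → r ≠ t → Commute p r → r * t ∈ Q p →
      s * r * s = r₁ ∨ s * r * s = r₂ ∨ s * r * s = r₃ := by
    intro r hr hrp hrt c1 c2
    have m1 : s * r * s ∈ P := hg.conj_mem' hr hss
    have d1 : Commute (s * r * s) t := by
      have := (hcc p r c1).symm
      rwa [hst] at this
    have d2 : (s * r * s) * p ∈ Q t := by
      have h1 := hg.Q_conj' h.hp hss c2
      have e : s * (r * t) * s = s * r * s * p := by
        calc s * (r * t) * s = s * r * (s * s) * t * s := by rw [hss]; group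
          _ = s * r * s * (s * t * s) := by group
          _ = _ := by rw [hts]
      rwa [hst, e] at h1
    rcases h.mem' _ m1 d1 d2 with e | e | e | e
    · exact absurd ((hinj _ _ e).symm.trans hst) hrt
    · exact Or.inl e
    · exact Or.inr (Or.inl e)
    · exact Or.inr (Or.inr e)
  have i1 := himg r₁ h.h1 h.p1.symm h.t1.symm h.cp1 h.m1
  have i2 := himg r₂ h.h2 h.p2.symm h.t2.symm h.cp2 h.m2
  have i3 := himg r₃ h.h3 h.p3.symm h.t3.symm h.cp3 h.m3
  by_cases f1 : s * r₁ * s = r₁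
  · exact Or.inl f1
  by_cases f2 : s * r₂ * s = r₂
  · exact Or.inr (Or.inl f2)
  by_cases f3 : s * r₃ * s = r₃
  · exact Or.inr (Or.inr f3)
  exfalso
  rcases i1 with e | e | e
  · exact f1 e
  · rcases i3 with e' | e' | e'
    · exact h.n23 (e.symm.trans (hinj _ _ e'))
    · exact h.n13 ((hinj _ _ e).symm.trans (hinj _ _ e'))
    · exact f3 e'
  · rcases i2 with e' | e' | e'
    · exact h.n23 ((hinj _ _ e').symm.trans e)
    · exact f2 e'
    · exact h.n12 ((hinj _ _ e).symm.trans (hinj _ _ e'))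

/-- rearranged form of `exists_fix` -/
theorem IsL.exists_fix' (hg : GeoN P Q) {p t r₁ r₂ r₃ s : G} (h : IsL P Q p t r₁ r₂ r₃)
    (hss : s * s = 1) (hst : s * p * s = t) : ∃ a b c, IsL P Q p t a b c ∧ s * a * s = a := by
  rcases h.exists_fix hg hss hst with e | e | e
  · exact ⟨_, _, _, h, e⟩
  · exact ⟨_, _, _, h.rot, e⟩
  · exact ⟨_, _, _, h.rot.rot, e⟩

theorem comm_of_fix {s r : G} (hss : s * s = 1) (h : s * r * s = r) : Commute s r := by
  show s * r = r * s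
  calc s * r = (s * r * s) * s⁻¹ := by group
    _ = r * s := by rw [h, inv_eq_of_mul_eq_one_left hss]

/-- Nothing in `P` swaps two points of a line. -/
theorem GeoN.not_swap (hg : GeoN P Q) {p t s : G} (hp : p ∈ P) (ht : t ∈ P) (hne : p ≠ t)
    (hc : Commute p t) (hs : s ∈ P) : s * p * s ≠ t := by
  intro hst
  obtain ⟨r₁, r₂, r₃, h⟩ := hg.isL hp ht hne hc
  have hss := hg.sq hs
  obtain ⟨a, b, c, h', hf⟩ := h.exists_fix' hg hss hst
  have csr := comm_of_fix hss hf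
  have hnc : ¬ Commute p s := by
    intro hps
    apply hne
    rw [← hst, ← hps.eq, mul_assoc, hss, mul_one]
  apply hnc
  apply hg.comm_of a h'.h1 p hp s hs h'.cp1 csr
  have e : p * s * (p * s) = p * t := by rw [← hst]; group
  rw [e]
  exact h'.q1

/-- A point commuting with two points of a line commutes with the others. -/
theorem IsL.comm_line (hg : GeoN P Q) {p t r₁ r₂ r₃ v : G} (h : IsL P Q p t r₁ r₂ r₃) (hv : v ∈ P)
    (hvp : Commute v p) (hvt : Commute v t) : Commute v r₁ := by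
  have hvv := hg.sq hv
  have c1 : v * p * v = p := by rw [hvp.eq, mul_assoc, hvv, mul_one]
  have c2 : v * t * v = t := by rw [hvt.eq, mul_assoc, hvv, mul_one]
  have m1 : v * r₁ * v ∈ P := hg.conj_mem' h.h1 hvv
  have d1 : Commute (v * r₁ * v) p := by
    show v * r₁ * v * p = p * (v * r₁ * v)
    calc v * r₁ * v * p = v * r₁ * (v * p) := by group
      _ = v * (r₁ * p) * v := by rw [hvp.eq]; group
      _ = v * (p * r₁) * v := by rw [h.cp1.eq]
      _ = (v * p) * r₁ * v := by group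
      _ = _ := by rw [hvp.eq]; group
  have d2 : (v * r₁ * v) * t ∈ Q p := by
    have h1 := hg.Q_conj' h.hp hvv h.m1
    have e : v * (r₁ * t) * v = v * r₁ * v * t := by
      calc v * (r₁ * t) * v = v * r₁ * (v * v) * t * v := by rw [hvv]; group
        _ = v * r₁ * v * (v * t * v) := by group
        _ = _ := by rw [c2]
    rwa [c1, e] at h1
  rcases h.mem _ m1 d1 d2 with e | e | e | e
  · exfalso
    apply h.t1
    have : v * (v * r₁ * v) * v = v * t * v := by rw [e]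
    rw [c2] at this
    rw [← this]
    calc v * (v * r₁ * v) * v = (v * v) * r₁ * (v * v) := by group
      _ = r₁ := by rw [hvv]; group
  · exact comm_of_fix hvv e
  · exact absurd e (hg.not_swap h.h1 h.h2 h.n12 h.c12 hv)
  · exact absurd e (hg.not_swap h.h1 h.h3 h.n13 h.c13 hv)

/-- `r₁` has no fixed points in a normal subgroup of odd order of `C(u)/⟨u⟩`, `u = p t`. -/
theorem IsL.fpf (hg : GeoN P Q) {p t r₁ r₂ r₃ : G} (h : IsL P Q p t r₁ r₂ r₃)
    (M : Subgroup (Ku (p * t) ⧸ Zu (p * t))) [M.Normal] (hodd : Odd (Nat.card M))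
    (rk : Ku (p * t)) (hrk : (rk : G) = r₁)
    (m : Ku (p * t) ⧸ Zu (p * t)) (hm : m ∈ M)
    (hfix : (QuotientGroup.mk rk : Ku (p * t) ⧸ Zu (p * t)) * m = m * QuotientGroup.mk rk) : m = 1 := by
  classical
  have huu := h.sq_mul hg
  obtain ⟨n, rfl⟩ := QuotientGroup.mk_surjective m
  have hk : ((QuotientGroup.mk n : Ku (p * t) ⧸ Zu (p * t))) ^ (Nat.card M) = 1 := by
    have : (⟨_, hm⟩ : M) ^ (Nat.card M) = 1 := pow_card_eq_one'
    exact congrArg Subtype.val this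
  set k := Nat.card M with hkdef
  -- `n' = n ^ 2` has odd order
  have hnk : (n ^ 2) ^ k = 1 := by
    have h1 : n ^ k ∈ Zu (p * t) := (QuotientGroup.eq_one_iff _).1 (by rw [← hk]; rfl)
    have h2 : n ^ k * n ^ k = 1 := by
      apply Subtype.ext
      show ((n ^ k : Ku (p * t)) : G) * (n ^ k : Ku (p * t)) = 1
      rcases (mem_Zu huu _).1 h1 with e | e <;> rw [e]
      · exact one_mul 1
      · exact huu
    rw [← pow_mul, mul_comm, pow_mul, pow_two]; exact h2
  set n' : Ku (p * t) := n ^ 2 with hn'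
  have hm' : (QuotientGroup.mk n' : Ku (p * t) ⧸ Zu (p * t)) ∈ M := by
    have : (QuotientGroup.mk n' : Ku (p * t) ⧸ Zu (p * t)) = (QuotientGroup.mk n) ^ 2 := rfl
    rw [this]; exact M.pow_mem hm 2
  have hfix' : (QuotientGroup.mk rk : Ku (p * t) ⧸ Zu (p * t)) * QuotientGroup.mk n' =
      QuotientGroup.mk n' * QuotientGroup.mk rk := by
    have e : (QuotientGroup.mk n' : Ku (p * t) ⧸ Zu (p * t)) = (QuotientGroup.mk n) ^ 2 := rfl
    rw [e]
    exact ((show Commute _ _ from hfix).pow_right 2).eq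
  -- `n'` commutes with `r₁`
  have hr : (n' : G) * r₁ = r₁ * n' := by
    have h1 : (QuotientGroup.mk (rk * n') : Ku (p * t) ⧸ Zu (p * t)) = QuotientGroup.mk (n' * rk) := hfix'
    rcases (mk_eq_mk huu).1 h1 with e | e
    · have : (n' : G) * rk = rk * n' := e
      rw [hrk] at this; exact this
    · exfalso
      have e1 : (n' : G) * rk = rk * n' * (p * t) := e
      rw [hrk] at e1
      have e2 : (n' : G) * r₁ * (n' : G)⁻¹ = r₁ * (p * t) := by
        rw [e1, mul_assoc r₁, comm_of_mem n']; group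
      have e3 := hg.conj_mem r₁ h.h1 n'
      rw [e2] at e3
      exact h.mul_notMem hg e3
  have hu1 : p * t ∈ Q r₁ := h.q1
  have hL := hg.large r₁ h.h1
  have hnk' : (n' : G) ^ k = 1 := by
    have := congrArg (fun x : Ku (p * t) => (x : G)) hnk
    simpa using this
  have hY : ∀ x ∈ Q r₁, x * (p * t) = (p * t) * x → (n' : G) * x = x * n' := by
    intro x hx hxu
    set xk : Ku (p * t) := ⟨x, Subgroup.mem_centralizer_singleton_iff.2 hxu⟩ with hxk
    have hcQ : (n' : G) * x * (n' : G)⁻¹ * x⁻¹ ∈ Q r₁ :=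
      (Q r₁).mul_mem (hL.conj_mem _ hr x hx) ((Q r₁).inv_mem hx)
    have hcM : (QuotientGroup.mk (n' * xk * n'⁻¹ * xk⁻¹) : Ku (p * t) ⧸ Zu (p * t)) ∈ M := by
      have h1 : (QuotientGroup.mk (n' * xk * n'⁻¹ * xk⁻¹) : Ku (p * t) ⧸ Zu (p * t)) =
        QuotientGroup.mk n' * (QuotientGroup.mk xk * (QuotientGroup.mk n')⁻¹ * (QuotientGroup.mk xk)⁻¹) := by
        rw [← mul_assoc, ← mul_assoc]; rfl
      rw [h1]
      exact M.mul_mem hm' (‹M.Normal›.conj_mem _ (M.inv_mem hm') _)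
    have hc4 : (QuotientGroup.mk (n' * xk * n'⁻¹ * xk⁻¹) : Ku (p * t) ⧸ Zu (p * t)) ^ 4 = 1 := by
      have h1 : (n' * xk * n'⁻¹ * xk⁻¹) ^ 4 = 1 := by
        apply Subtype.ext
        have := pow_four hL hcQ
        simpa using this
      have h2 : (QuotientGroup.mk (n' * xk * n'⁻¹ * xk⁻¹) : Ku (p * t) ⧸ Zu (p * t)) ^ 4 =
        QuotientGroup.mk ((n' * xk * n'⁻¹ * xk⁻¹) ^ 4) := rfl
      rw [h2, h1]; rfl
    have hck : (QuotientGroup.mk (n' * xk * n'⁻¹ * xk⁻¹) : Ku (p * t) ⧸ Zu (p * t)) ^ k = 1 := by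
      have : (⟨_, hcM⟩ : M) ^ (Nat.card M) = 1 := pow_card_eq_one'
      exact congrArg Subtype.val this
    have hc1 := eq_one_of_odd hc4 hck hodd
    have hcZ : n' * xk * n'⁻¹ * xk⁻¹ ∈ Zu (p * t) := (QuotientGroup.eq_one_iff _).1 hc1
    -- `n' x = x n'` or `n' x = x n' u`
    rcases (mem_Zu huu _).1 hcZ with e | e
    · have e1 : (n' : G) * x * (n' : G)⁻¹ * x⁻¹ = 1 := e
      have : (n' : G) * x = ((n' : G) * x * (n' : G)⁻¹ * x⁻¹) * (x * n') := by group
      rw [this, e1, one_mul]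
    · exfalso
      have e1 : (n' : G) * x * (n' : G)⁻¹ * x⁻¹ = p * t := e
      have e2 : (n' : G) * x = (p * t) * x * n' :=
        mul_inv_eq_iff_eq_mul.1 (mul_inv_eq_iff_eq_mul.1 e1)
      have hpow : ∀ i : ℕ, (n' : G) ^ i * x = (p * t) ^ i * x * (n' : G) ^ i := by
        intro i
        induction i with
        | zero => simp
        | succ i ih =>
          have c1 : (n' : G) * (p * t) ^ i = (p * t) ^ i * n' :=
            ((show Commute (n' : G) (p * t) from comm_of_mem n').pow_right i).eq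
          calc (n' : G) ^ (i + 1) * x = n' * ((n' : G) ^ i * x) := by rw [pow_succ']; group
            _ = (n' * (p * t) ^ i) * x * (n' : G) ^ i := by rw [ih]; group
            _ = (p * t) ^ i * (n' * x) * (n' : G) ^ i := by rw [c1]; group
            _ = (p * t) ^ i * (p * t) * x * (n' * (n' : G) ^ i) := by rw [e2]; group
            _ = _ := by rw [← pow_succ, ← pow_succ']
      have h1 := hpow k
      rw [hnk', one_mul, mul_one] at h1
      have h2 : (p * t) ^ k = 1 := (right_eq_mul.1 h1)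
      have h3 : (p * t) ^ 4 = 1 := pow_four hL hu1
      have h4 := eq_one_of_odd h3 h2 hodd
      exact h.pt (by rw [← hg.inv h.ht]; exact eq_inv_of_mul_eq_one_left h4)
  have h1 : (n' : G) = 1 := eq_one_of_centralizes hL hu1 hr (comm_of_mem n') hY hodd hnk'
  have h2 : n' = 1 := Subtype.ext h1
  -- `n ^ 2 = 1` and odd order of `m`
  have h3 : (QuotientGroup.mk n : Ku (p * t) ⧸ Zu (p * t)) ^ 4 = 1 := by
    have e : (QuotientGroup.mk n : Ku (p * t) ⧸ Zu (p * t)) ^ 4 = QuotientGroup.mk ((n ^ 2) ^ 2) := by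
      rw [← pow_mul]; rfl
    rw [e, ← hn', h2, one_pow]; rfl
  exact eq_one_of_odd h3 hk hodd

/-- `C(u)/⟨u⟩` has no normal subgroups of odd order, `u = p t`. -/
theorem IsL.core_trivial [Finite G] (hg : GeoN P Q) {p t r₁ r₂ r₃ : G} (h : IsL P Q p t r₁ r₂ r₃)
    (M : Subgroup (Ku (p * t) ⧸ Zu (p * t))) [M.Normal] (hodd : Odd (Nat.card M))
    (m : Ku (p * t) ⧸ Zu (p * t)) (hm : m ∈ M) : m = 1 := by
  classical
  have huu := h.sq_mul hg
  have hc1 : r₁ ∈ Ku (p * t) := Subgroup.mem_centralizer_singleton_iff.2 h.comm_r.eq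
  have hc2 : r₂ ∈ Ku (p * t) := Subgroup.mem_centralizer_singleton_iff.2 h.rot.comm_r.eq
  have hc3 : r₃ ∈ Ku (p * t) := Subgroup.mem_centralizer_singleton_iff.2 h.rot.rot.comm_r.eq
  have hsq : ∀ (r : G) (hr : r ∈ Ku (p * t)), r * r = 1 →
      (QuotientGroup.mk (⟨r, hr⟩ : Ku (p * t)) : Ku (p * t) ⧸ Zu (p * t)) * QuotientGroup.mk ⟨r, hr⟩ = 1 := by
    intro r hr hrr
    have e : (⟨r, hr⟩ : Ku (p * t)) * ⟨r, hr⟩ = 1 := Subtype.ext hrr
    have e2 : (QuotientGroup.mk (⟨r, hr⟩ : Ku (p * t)) : Ku (p * t) ⧸ Zu (p * t)) *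
      QuotientGroup.mk ⟨r, hr⟩ = QuotientGroup.mk ((⟨r, hr⟩ : Ku (p * t)) * ⟨r, hr⟩) := rfl
    rw [e2, e]; rfl
  have i1 := fun x hx => inverts M (QuotientGroup.mk (⟨r₁, hc1⟩ : Ku (p * t)))
    (hsq r₁ hc1 (hg.sq h.h1)) (fun m hm hf => h.fpf hg M hodd ⟨r₁, hc1⟩ rfl m hm hf) x hx
  have i2 := fun x hx => inverts M (QuotientGroup.mk (⟨r₂, hc2⟩ : Ku (p * t)))
    (hsq r₂ hc2 (hg.sq h.h2)) (fun m hm hf => h.rot.fpf hg M hodd ⟨r₂, hc2⟩ rfl m hm hf) x hx
  have i3 := fun x hx => inverts M (QuotientGroup.mk (⟨r₃, hc3⟩ : Ku (p * t)))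
    (hsq r₃ hc3 (hg.sq h.h3)) (fun m hm hf => h.rot.rot.fpf hg M hodd ⟨r₃, hc3⟩ rfl m hm hf) x hx
  have hprod : (QuotientGroup.mk (⟨r₁, hc1⟩ : Ku (p * t)) : Ku (p * t) ⧸ Zu (p * t)) *
      QuotientGroup.mk ⟨r₂, hc2⟩ * QuotientGroup.mk ⟨r₃, hc3⟩ = 1 := by
    have e : (QuotientGroup.mk (⟨r₁, hc1⟩ : Ku (p * t)) : Ku (p * t) ⧸ Zu (p * t)) *
      QuotientGroup.mk ⟨r₂, hc2⟩ * QuotientGroup.mk ⟨r₃, hc3⟩ =
      QuotientGroup.mk ((⟨r₁, hc1⟩ : Ku (p * t)) * ⟨r₂, hc2⟩ * ⟨r₃, hc3⟩) := rfl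
    rw [e, QuotientGroup.eq_one_iff, mem_Zu huu]
    right
    show r₁ * r₂ * r₃ = p * t
    exact (h.eq_mul hg).symm
  set a := (QuotientGroup.mk (⟨r₁, hc1⟩ : Ku (p * t)) : Ku (p * t) ⧸ Zu (p * t))
  set b := (QuotientGroup.mk (⟨r₂, hc2⟩ : Ku (p * t)) : Ku (p * t) ⧸ Zu (p * t))
  set c := (QuotientGroup.mk (⟨r₃, hc3⟩ : Ku (p * t)) : Ku (p * t) ⧸ Zu (p * t))
  have e1 : (a * b * c) * m * (a * b * c)⁻¹ = m⁻¹ := by
    calc (a * b * c) * m * (a * b * c)⁻¹ = a * (b * (c * m * c⁻¹) * b⁻¹) * a⁻¹ := by group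
      _ = a * (b * m⁻¹ * b⁻¹) * a⁻¹ := by rw [i3 m hm]
      _ = a * m * a⁻¹ := by rw [i2 _ (M.inv_mem hm), inv_inv]
      _ = m⁻¹ := i1 m hm
  rw [hprod] at e1
  have e2 : m = m⁻¹ := by
    rw [← e1]; group
  have e3 : m ^ 4 = 1 := by
    have : m * m = 1 := by
      nth_rewrite 1 [e2]; exact inv_mul_cancel m
    calc m ^ 4 = (m * m) * (m * m) := by simp only [pow_succ, pow_zero, one_mul, mul_assoc]
      _ = 1 := by rw [this, one_mul]
  have e4 : m ^ (Nat.card M) = 1 := by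
    have : (⟨_, hm⟩ : M) ^ (Nat.card M) = 1 := pow_card_eq_one'
    exact congrArg Subtype.val this
  exact eq_one_of_odd e3 e4 hodd

/-- the reflections of the dihedral group generated by two elements of `P` are in `P` -/
theorem GeoN.refl_mem (hg : GeoN P Q) {z s : G} (hz : z ∈ P) (hs : s ∈ P) :
    ∀ i : ℕ, z * (z * s) ^ i ∈ P := by
  have hzz := hg.sq hz
  have step : ∀ i : ℕ, z * (z * s) ^ i ∈ P → z * (z * s) ^ (i + 2) ∈ P := by
    intro i hi
    have h1 := hg.conj_mem _ hi (z * s)⁻¹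
    have e : (z * s)⁻¹ * (z * (z * s) ^ i) * (z * s)⁻¹⁻¹ = z * (z * s) ^ (i + 2) := by
      rw [inv_inv, mul_inv_rev, hg.inv hz, hg.inv hs]
      calc s * z * (z * (z * s) ^ i) * (z * s) = s * (z * z) * ((z * s) ^ i * (z * s)) := by group
        _ = s * (z * s) ^ (i + 1) := by rw [hzz, mul_one, ← pow_succ]
        _ = (z * z) * s * (z * s) ^ (i + 1) := by rw [hzz, one_mul]
        _ = z * ((z * s) * (z * s) ^ (i + 1)) := by simp only [mul_assoc]
        _ = z * (z * s) ^ (i + 2) := by rw [← pow_succ']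
    rwa [e] at h1
  intro i
  induction i using Nat.twoStepInduction with
  | zero => simpa using hz
  | one =>
    rw [pow_one, ← mul_assoc, hzz, one_mul]; exact hs
  | more i h0 _ => exact step i h0

end

/-- (B1) an element of `P` commuting with `p t` commutes with `p`. -/
theorem GeoN.comm_of_comm_mul {G : Type u} [Group G] [Finite G] {P : Set G} {Q : G → Subgroup G}
    (hZ : ZStar.{u}) (hg : GeoN P Q) {p t s : G} (hp : p ∈ P) (ht : t ∈ P) (hne : p ≠ t)
    (hc : Commute p t) (hs : s ∈ P) (hsu : Commute s (p * t)) : Commute s p := by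
  classical
  obtain ⟨r₁, r₂, r₃, h⟩ := hg.isL hp ht hne hc
  have huu := h.sq_mul hg
  have hpK : p ∈ Ku (p * t) := by
    refine Subgroup.mem_centralizer_singleton_iff.2 ?_
    exact ((Commute.refl p).mul_right hc).eq
  have hsK : s ∈ Ku (p * t) := Subgroup.mem_centralizer_singleton_iff.2 hsu.eq
  set pk : Ku (p * t) := ⟨p, hpK⟩ with hpk
  -- a member of `P` commuting with `p` modulo `⟨p t⟩` commutes with `p`
  have key : ∀ x : Ku (p * t), (x : G) ∈ P →
      (QuotientGroup.mk (pk * x) : Ku (p * t) ⧸ Zu (p * t)) = QuotientGroup.mk (x * pk) →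
      Commute (x : G) p := by
    intro x hx hcx
    rcases (mk_eq_mk huu).1 hcx with e | e
    · exact e
    · exfalso
      have e1 : (x : G) * p = p * x * (p * t) := e
      apply hg.not_swap hp ht hne hc hx
      have hxx := hg.sq hx
      calc (x : G) * p * x = p * x * (p * t) * x := by rw [e1]
        _ = p * (x * ((p * t) * x)) := by group
        _ = p * (x * (x * (p * t))) := by rw [comm_of_mem x]
        _ = p * ((x * x) * (p * t)) := by group
        _ = (p * p) * t := by rw [hxx]; group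
        _ = t := by rw [hg.sq hp, one_mul]
  have hiso : Cfsg.IsIsolatedInvolution (QuotientGroup.mk pk : Ku (p * t) ⧸ Zu (p * t)) := by
    constructor
    · have h1 : (QuotientGroup.mk pk : Ku (p * t) ⧸ Zu (p * t)) ^ 2 = 1 := by
        have e : (QuotientGroup.mk pk : Ku (p * t) ⧸ Zu (p * t)) ^ 2 = QuotientGroup.mk (pk ^ 2) := rfl
        have e2 : pk ^ 2 = 1 := by
          apply Subtype.ext
          show p ^ 2 = 1
          rw [pow_two]; exact hg.sq hp
        rw [e, e2]; rfl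
      refine orderOf_eq_prime h1 ?_
      intro h2
      rw [QuotientGroup.eq_one_iff, mem_Zu huu] at h2
      rcases h2 with h3 | h3
      · exact hg.ne_one hp h3
      · have h4 : p = p * t := h3
        exact hg.ne_one ht (left_eq_mul.1 h4)
    · intro g hgc
      obtain ⟨k, rfl⟩ := QuotientGroup.mk_surjective g
      have hx : (((k * pk * k⁻¹ : Ku (p * t))) : G) ∈ P := hg.conj_mem p hp k
      have hcc : Commute ((k * pk * k⁻¹ : Ku (p * t)) : G) p := key _ hx hgc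
      have ht' : (k : G) * t * (k : G)⁻¹ ∈ P := hg.conj_mem t ht k
      have hprod : (k : G) * p * (k : G)⁻¹ * ((k : G) * t * (k : G)⁻¹) = p * t := by
        calc (k : G) * p * (k : G)⁻¹ * ((k : G) * t * (k : G)⁻¹) = (k * (p * t)) * (k : G)⁻¹ := by group
          _ = p * t := by rw [comm_of_mem k]; group
      have e0 : (QuotientGroup.mk k * QuotientGroup.mk pk * (QuotientGroup.mk k)⁻¹ :
        Ku (p * t) ⧸ Zu (p * t)) = QuotientGroup.mk (k * pk * k⁻¹) := rfl
      rw [e0, mk_eq_mk huu]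
      rcases hg.eq_or_eq hp ht hne hc hx ht' hprod hcc with e | e
      · left; exact e.symm
      · right
        rw [e]
        calc p = (t * t) * p := by rw [hg.sq ht, one_mul]
          _ = t * (p * t) := by rw [mul_assoc, hc.eq]
  obtain ⟨N, hN, hodd, hcom⟩ := hZ _ _ hiso
  apply key ⟨s, hsK⟩ hs
  have h1 := h.core_trivial hg N hodd _ (hcom (QuotientGroup.mk ⟨s, hsK⟩))
  rw [mul_inv_eq_one, mul_inv_eq_iff_eq_mul] at h1
  exact h1

section

variable {G : Type u} [Group G] [Finite G] {P : Set G} {Q : G → Subgroup G}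

/-- Both points commute with an element of `P` which commutes with the product. -/
theorem GeoN.comm_both (hZ : ZStar.{u}) (hg : GeoN P Q) {p t s : G} (hp : p ∈ P) (ht : t ∈ P) (hne : p ≠ t)
    (hc : Commute p t) (hs : s ∈ P) (hsu : Commute s (p * t)) : Commute s p ∧ Commute s t :=
  ⟨hg.comm_of_comm_mul hZ hp ht hne hc hs hsu,
    hg.comm_of_comm_mul hZ ht hp hne.symm hc.symm hs (by rw [← hc.eq]; exact hsu)⟩

/-- Noncommuting elements of `P` have a product of odd order. -/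
theorem GeoN.odd_order (hZ : ZStar.{u}) (hg : GeoN P Q) {z s : G} (hz : z ∈ P) (hs : s ∈ P)
    (hnc : ¬ Commute z s) : Odd (orderOf (z * s)) := by
  rw [← Nat.not_even_iff_odd]
  rintro ⟨m, hm⟩
  apply hnc
  have hpos : 0 < orderOf (z * s) := orderOf_pos _
  set j := (z * s) ^ m with hj
  have hjj : j * j = 1 := by rw [hj, ← pow_add, ← hm, pow_orderOf_eq_one]
  have hj1 : j ≠ 1 := by
    intro h
    have := orderOf_dvd_of_pow_eq_one h
    have := Nat.le_of_dvd (by omega) this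
    omega
  have hji : j⁻¹ = j := inv_eq_of_mul_eq_one_left hjj
  obtain ⟨c1, c2⟩ := conj_pow_eq (hg.sq hz) (hg.sq hs) m
  rw [← hj, hji] at c1 c2
  have czj : Commute z j := by
    show z * j = j * z
    calc z * j = (z * j * z) * z⁻¹ := by group
      _ = j * z := by rw [c1, hg.inv hz]
  have csj : Commute s j := by
    show s * j = j * s
    calc s * j = (s * j * s) * s⁻¹ := by group
      _ = j * s := by rw [c2, hg.inv hs]
  have ht : z * j ∈ P := hg.refl_mem hz hs m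
  have hne : z ≠ z * j := by
    intro h
    exact hj1 (left_eq_mul.1 h)
  have hc : Commute z (z * j) := (Commute.refl z).mul_right czj
  have hprod : z * (z * j) = j := by rw [← mul_assoc, hg.sq hz, one_mul]
  exact (hg.comm_of_comm_mul hZ hz ht hne hc hs (by rw [hprod]; exact csj)).symm

/-- Two noncommuting elements of `P` centralised by `j` are conjugate in `C(j)`. -/
theorem GeoN.conj_in (hZ : ZStar.{u}) (hg : GeoN P Q) {p s j : G} (hp : p ∈ P) (hs : s ∈ P)
    (hnc : ¬ Commute p s) (hpj : Commute p j) (hsj : Commute s j) :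
    ∃ k : G, Commute k j ∧ k * p * k⁻¹ = s := by
  obtain ⟨m, hm⟩ := hg.odd_order hZ hp hs hnc
  refine ⟨(p * s) ^ m, (hpj.mul_left hsj).pow_left _, ?_⟩
  obtain ⟨c1, -⟩ := conj_pow_eq (hg.sq hp) (hg.sq hs) m
  have h1 : (p * s) ^ m * (p * s) ^ m = (p * s)⁻¹ := by
    apply eq_inv_of_mul_eq_one_left
    rw [← pow_add, ← pow_succ, ← two_mul, ← hm, pow_orderOf_eq_one]
  set w := (p * s) ^ m with hw
  have hwp : p * w⁻¹ = w * p := by
    rw [← c1, ← mul_assoc, ← mul_assoc, hg.sq hp, one_mul]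
  calc w * p * w⁻¹ = w * (p * w⁻¹) := by group
    _ = w * w * p := by rw [hwp]; group
    _ = s * (p * p) := by rw [h1, mul_inv_rev, hg.inv hp, hg.inv hs]; group
    _ = s := by rw [hg.sq hp, mul_one]

end

end Cfsg.Agent.LargeExtra.Wide
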